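import Mathlib
import Groth.Prelude.Def_W4c2arithlefschetzNode

/-!
# The two branches of the formal double point
-/

set_option autoImplicit false

universe u

open MvPowerSeries ArLef

namespace Groth.Agent.H26Node

variable {B : Type u} [CommRing B] [IsLocalRing B] {π : B}

/-- The class of a variable. -/
noncomputable abbrev br (π : B) (i : Fin 2) : NodeAlg B π := Ideal.Quotient.mk _ (MvPowerSeries.X i)

omit [IsLocalRing B] in
theorem X_mul_X {i j : Fin 2} (h : i ≠ j) :
    (X i * X j : MvPowerSeries (Fin 2) B) = X 0 * X 1 := by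
  fin_cases i <;> fin_cases j <;> simp at h ⊢
  exact mul_comm _ _

omit [IsLocalRing B] in
theorem br_mul_br (π : B) {i j : Fin 2} (h : i ≠ j) :
    br π i * br π j = algebraMap B (NodeAlg B π) π := by
  rw [br, br, ← map_mul, X_mul_X h]
  show _ = Ideal.Quotient.mk _ (algebraMap B (MvPowerSeries (Fin 2) B) π)
  rw [← c_eq_algebraMap, Ideal.Quotient.mk_eq_mk_iff_sub_mem]
  exact Ideal.subset_span rfl

omit [IsLocalRing B] in
theorem algebraMap_eq (π : B) : algebraMap B (NodeAlg B π) π = Ideal.Quotient.mk _ (C π) := by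
  show Ideal.Quotient.mk _ (algebraMap B (MvPowerSeries (Fin 2) B) π) = _
  rw [← c_eq_algebraMap]

theorem X_ne_zero' (k : Type u) [Field k] : (X () : MvPowerSeries Unit k) ≠ 0 := fun h =>
  one_ne_zero (α := k) (by simpa using congrArg (coeff (Finsupp.single () 1)) h)

/-- Restriction to the branch in the variable `j`. -/
noncomputable def restrict (B : Type u) [CommRing B] [IsLocalRing B] (j : Fin 2) :
    MvPowerSeries (Fin 2) B →+* MvPowerSeries Unit (IsLocalRing.ResidueField B) :=
  (killCompl (⟨fun _ => j, fun _ _ _ => rfl⟩ : Unit ↪ Fin 2)).toRingHom.comp (map (IsLocalRing.residue B))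

theorem restrict_X {i j : Fin 2} (h : i ≠ j) : restrict B j (X i) = 0 := by
  simp only [restrict, RingHom.comp_apply, map_X]
  exact killCompl_X_eq_zero (by rintro ⟨u, he⟩; exact h (Eq.symm he))

theorem restrict_X_self (j : Fin 2) : restrict B j (X j) = X () := by
  simp only [restrict, RingHom.comp_apply, map_X]
  exact killCompl_X (e := (⟨fun _ => j, fun _ _ _ => rfl⟩ : Unit ↪ Fin 2)) ()

variable (hπ : IsLocalRing.maximalIdeal B = Ideal.span {π})
include hπ

theorem restrict_rel (j : Fin 2) :
    restrict B j (X 0 * X 1 - C π) = 0 := by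
  obtain ⟨i, hi⟩ := exists_ne j
  have h1 : restrict B j (C π) = 0 := by
    simp only [restrict, RingHom.comp_apply, map_C,
      (IsLocalRing.residue_eq_zero_iff π).2 (hπ ▸ Ideal.mem_span_singleton_self π), map_zero]
  rw [map_sub, h1, sub_zero, ← X_mul_X hi, map_mul, restrict_X hi, zero_mul]

/-- Restriction to a branch, on the node. -/
noncomputable def restrictNode (j : Fin 2) :
    NodeAlg B π →+* MvPowerSeries Unit (IsLocalRing.ResidueField B) :=
  Ideal.Quotient.lift _ (restrict B j) fun a ha => by
    obtain ⟨g, rfl⟩ := Ideal.mem_span_singleton'.1 ha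
    rw [map_mul, restrict_rel hπ, mul_zero]

theorem restrictNode_br {i j : Fin 2} (h : i ≠ j) : restrictNode hπ j (br π i) = 0 := by
  exact restrict_X h

theorem restrictNode_br_self (j : Fin 2) : restrictNode hπ j (br π j) = X () := by
  exact restrict_X_self j

theorem eq_zero_iff_dvd {i j : Fin 2} (h : i ≠ j) (a : NodeAlg B π) :
    restrictNode hπ j a = 0 ↔ br π i ∣ a := by
  refine ⟨fun ha => ?_, fun ⟨b, hb⟩ => by rw [hb, map_mul, restrictNode_br hπ h, zero_mul]⟩
  obtain ⟨F, rfl⟩ := Ideal.Quotient.mk_surjective a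
  change restrict B j F = 0 at ha
  classical
  have hcoeff : ∀ n : ℕ, π ∣ coeff (Finsupp.single j n) F := fun n => by
    have h0 := congrArg (coeff (Finsupp.single () n)) ha
    simp only [restrict, RingHom.comp_apply, map_zero] at h0
    change coeff (Finsupp.single () n) (killCompl _ (map (IsLocalRing.residue B) F)) = 0 at h0
    rw [coeff_killCompl, coeff_map, Finsupp.embDomain_single, IsLocalRing.residue_eq_zero_iff,
      hπ, Ideal.mem_span_singleton] at h0
    exact h0
  choose c hc using hcoeff
  let H : MvPowerSeries (Fin 2) B := fun m => if m i = 0 then c (m j) else 0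
  have hd : X i ∣ F - C π * H := by
    rw [X_dvd_iff]
    intro m hm
    have hmj : m = Finsupp.single j (m j) := by
      ext l
      by_cases hl : l = j
      · subst hl; simp
      · have : l = i := by revert h hl; fin_cases i <;> fin_cases j <;> fin_cases l <;> simp
        subst this
        rw [hm, Finsupp.single_eq_of_ne hl]
    rw [map_sub, coeff_C_mul, show coeff m H = c (m j) from if_pos hm, sub_eq_zero]
    conv_lhs => rw [hmj]
    exact hc _
  obtain ⟨G, hG⟩ := hd
  refine ⟨br π j * Ideal.Quotient.mk _ H + Ideal.Quotient.mk _ G, ?_⟩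
  rw [mul_add, ← mul_assoc, br_mul_br π h, algebraMap_eq, br, ← map_mul, ← map_mul, ← hG, ← map_add, add_sub_cancel]

theorem prime_br {i j : Fin 2} (h : i ≠ j) : Prime (br π i) := by
  refine ⟨fun h0 => ?_, fun hu => ?_, fun a b hab => ?_⟩
  · have := restrictNode_br_self hπ (π := π) i
    rw [h0, map_zero] at this
    exact X_ne_zero' _ this.symm
  · have := hu.map (restrictNode hπ j)
    rw [restrictNode_br hπ h] at this
    exact not_isUnit_zero this
  · have := (eq_zero_iff_dvd hπ h _).2 hab
    rw [map_mul, mul_eq_zero] at this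
    exact this.imp (eq_zero_iff_dvd hπ h a).1 (eq_zero_iff_dvd hπ h b).1

theorem not_br_dvd_br {i j : Fin 2} (h : i ≠ j) : ¬ br π i ∣ br π j := fun hd => by
  have := (eq_zero_iff_dvd hπ h _).2 hd
  rw [restrictNode_br_self] at this
  exact X_ne_zero' _ this

theorem isLocalRing : IsLocalRing (NodeAlg B π) := by
  haveI : Nontrivial (NodeAlg B π) := (restrictNode hπ 0).domain_nontrivial
  exact IsLocalRing.of_surjective' (Ideal.Quotient.mk _) Ideal.Quotient.mk_surjective

omit [IsLocalRing B] hπ in
/-- In a local ring a prime dividing a prime is associated to it. -/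
theorem associated_of_prime_dvd {R : Type*} [CommRing R] [IsLocalRing R] {p q : R} (hp : Prime p)
    (hq : Prime q) (h : p ∣ q) : Associated p q := by
  obtain ⟨c, rfl⟩ := h
  rcases hq.dvd_or_dvd (dvd_refl (p * c)) with h1 | ⟨d, hd⟩
  · obtain ⟨d, hd⟩ := h1
    have h0 : p * (1 - c * d) = 0 := by linear_combination hd
    have hcu : IsUnit c := by
      rcases IsLocalRing.isUnit_or_isUnit_one_sub_self (c * d) with hu | hu
      · exact isUnit_of_mul_isUnit_left hu
      · exact absurd ((hu.mul_left_eq_zero).1 h0) hp.ne_zero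
    exact ⟨hcu.unit, rfl⟩
  · exfalso
    have h0 : c * (1 - p * d) = 0 := by linear_combination hd
    rcases IsLocalRing.isUnit_or_isUnit_one_sub_self (p * d) with hu | hu
    · exact hp.not_isUnit (isUnit_of_mul_isUnit_left hu)
    · exact hq.ne_zero (by rw [(hu.mul_left_eq_zero).1 h0, mul_zero])

/-- An automorphism preserving the thickness either stabilises or switches the branches. -/
theorem branches (σ : NodeAlg B π ≃+* NodeAlg B π)
    (hσ : Associated (σ (algebraMap B (NodeAlg B π) π)) (algebraMap B (NodeAlg B π) π)) :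
    (Associated (br π 0) (σ (br π 0)) ∧ Associated (br π 1) (σ (br π 1))) ∨
      (Associated (br π 1) (σ (br π 0)) ∧ Associated (br π 0) (σ (br π 1))) := by
  haveI := isLocalRing hπ
  have h01 : (0 : Fin 2) ≠ 1 := by decide
  have hp : ∀ i : Fin 2, Prime (br π i) := fun i => by
    obtain ⟨j, hj⟩ := exists_ne i
    exact prime_br hπ hj.symm
  have hq : ∀ i : Fin 2, Prime (σ (br π i)) := fun i => (MulEquiv.prime_iff σ.toMulEquiv).2 (hp i)
  have hdvd : ∀ i : Fin 2, br π i ∣ σ (br π 0) * σ (br π 1) := fun i => by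
    rw [← map_mul, br_mul_br π h01]
    refine dvd_trans ?_ hσ.symm.dvd
    obtain ⟨j, hj⟩ := exists_ne i
    exact ⟨br π j, (br_mul_br π hj.symm).symm⟩
  have hnot : ∀ {i j : Fin 2}, i ≠ j → ∀ l, Associated (br π i) (σ (br π l)) → ¬ br π j ∣ σ (br π l) :=
    fun {i j} hij l ha hd => not_br_dvd_br hπ hij.symm (hd.trans ha.symm.dvd)
  rcases (hp 0).dvd_or_dvd (hdvd 0) with h | h
  · have ha := associated_of_prime_dvd (hp 0) (hq 0) h
    exact Or.inl ⟨ha, associated_of_prime_dvd (hp 1) (hq 1)
      (((hp 1).dvd_or_dvd (hdvd 1)).resolve_left (hnot h01 0 ha))⟩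
  · have ha := associated_of_prime_dvd (hp 0) (hq 1) h
    exact Or.inr ⟨associated_of_prime_dvd (hp 1) (hq 0)
      (((hp 1).dvd_or_dvd (hdvd 1)).resolve_right (hnot h01 1 ha)), ha⟩

end Groth.Agent.H26Node
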