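import Groth.Agent.H26Node.Length

/-!
# Residual fixed-point lengths
-/

set_option autoImplicit false

universe u

open ArLef

namespace Groth.Agent.H26Node

variable {B : Type u} [CommRing B] [IsDomain B] [IsDiscreteValuationRing B] {π : B}

/-- Splitting off one branch from an element. -/
theorem length_pair_mul (hπ : Irreducible π) {i j : Fin 2} (h : i ≠ j) {a m : NodeAlg B π}
    (ha : ¬ br π i ∣ a) :
    Module.length (NodeAlg B π) (NodeAlg B π ⧸ Ideal.span {a, br π i * m}) =
      Module.length (NodeAlg B π) (NodeAlg B π ⧸ Ideal.span {a, m}) +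
        Module.length (NodeAlg B π) (NodeAlg B π ⧸ Ideal.span {br π i, a}) := by
  rw [length_step (Ideal.span {a, br π i * m}) (Ideal.span {a, m}) (br π i) fun y => ?_]
  · suffices e : Ideal.span {a, br π i * m} ⊔ Ideal.span {br π i} = Ideal.span {br π i, a} by rw [e]
    refine le_antisymm (sup_le (Ideal.span_le.2 ?_) (Ideal.span_le.2 ?_)) (Ideal.span_le.2 ?_)
    · rintro _ (rfl | rfl)
      · exact Ideal.subset_span (Or.inr rfl)
      · exact Ideal.mul_mem_right _ _ (Ideal.subset_span (Or.inl rfl))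
    · rintro _ rfl; exact Ideal.subset_span (Or.inl rfl)
    · rintro _ (rfl | rfl)
      · exact Ideal.mem_sup_right (Ideal.mem_span_singleton_self _)
      · exact Ideal.mem_sup_left (Ideal.subset_span (Or.inl rfl))
  · rw [Ideal.mem_span_pair, Ideal.mem_span_pair]
    constructor
    · rintro ⟨u, v, huv⟩
      have hd : br π i ∣ a * u := ⟨y - v * m, by linear_combination huv⟩
      obtain ⟨q, hq⟩ := dvd_of_dvd_mul hπ.maximalIdeal_eq h ha hd
      refine ⟨q, v, sub_eq_zero.1 (br_regular hπ.ne_zero i ?_)⟩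
      linear_combination huv - a * hq
    · rintro ⟨u, v, rfl⟩
      exact ⟨br π i * u, v, by ring⟩

/-- Splitting off a power of one branch. -/
theorem length_pair_pow_mul (hπ : Irreducible π) {i j : Fin 2} (h : i ≠ j) {a m : NodeAlg B π} :
    ∀ n : ℕ, (n ≠ 0 → ¬ br π i ∣ a) →
      Module.length (NodeAlg B π) (NodeAlg B π ⧸ Ideal.span {a, br π i ^ n * m}) =
        Module.length (NodeAlg B π) (NodeAlg B π ⧸ Ideal.span {a, m}) +
          (n : ℕ∞) * Module.length (NodeAlg B π) (NodeAlg B π ⧸ Ideal.span {br π i, a}) := by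
  intro n
  induction n with
  | zero => intro _; rw [pow_zero, one_mul, Nat.cast_zero, zero_mul, add_zero]
  | succ n ih =>
    intro ha
    rw [pow_succ', mul_assoc, length_pair_mul hπ h (ha n.succ_ne_zero), ih fun _ => ha n.succ_ne_zero]
    push_cast
    ring

theorem length_br_br_pow (hπ : Irreducible π) (n : ℕ) :
    Module.length (NodeAlg B π) (NodeAlg B π ⧸ Ideal.span {br π 1, br π 0 ^ n}) = (n : ℕ∞) := by
  have h := length_pair_pow_mul hπ (i := 0) (j := 1) (by decide) (a := br π 1) (m := 1) n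
    (fun _ => not_br_dvd_br hπ.maximalIdeal_eq (show (0 : Fin 2) ≠ 1 by decide))
  have h1 : Ideal.span {br π 1, (1 : NodeAlg B π)} = ⊤ :=
    Ideal.eq_top_of_isUnit_mem _ (Ideal.subset_span (Or.inr rfl)) isUnit_one
  haveI : Subsingleton (NodeAlg B π ⧸ Ideal.span {br π 1, (1 : NodeAlg B π)}) :=
    Ideal.Quotient.subsingleton_iff.2 h1
  rw [mul_one, Module.length_eq_zero (M := NodeAlg B π ⧸ Ideal.span {br π 1, (1 : NodeAlg B π)}), zero_add,
    show Ideal.span {br π 0, br π 1} = nodeIdeal π from rfl, length_nodeIdeal hπ.maximalIdeal_eq, mul_one] at h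
  exact h

end Groth.Agent.H26Node
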