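import Mathlib
import Groth.Agent.H26Node.Basic

/-!
# The fixed-point ideal of an automorphism stabilising the branches
-/

set_option autoImplicit false

universe u

open MvPowerSeries ArLef

namespace Groth.Agent.H26Node

variable {B : Type u} [CommRing B] {π : B}

/-- The ideal of the singular point. -/
noncomputable def nodeIdeal (π : B) : Ideal (NodeAlg B π) :=
  Ideal.span ({ArLef.NodeAlg.t π, ArLef.NodeAlg.e π} : Set (NodeAlg B π))

theorem exists_decomp (r : NodeAlg B π) :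
    ∃ (b : B) (r₁ r₂ : NodeAlg B π),
      r = algebraMap B (NodeAlg B π) b + ArLef.NodeAlg.t π * r₁ + ArLef.NodeAlg.e π * r₂ := by
  classical
  obtain ⟨F, rfl⟩ := Ideal.Quotient.mk_surjective r
  let H : MvPowerSeries (Fin 2) B := fun m => if m 0 = 0 then coeff m F else 0
  obtain ⟨G, hG⟩ : X 0 ∣ F - H := by
    rw [X_dvd_iff]
    intro m hm
    rw [map_sub, show coeff m H = coeff m F from if_pos hm, sub_self]
  obtain ⟨G', hG'⟩ : X 1 ∣ H - C (coeff 0 F) := by
    rw [X_dvd_iff]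
    intro m hm
    rw [map_sub]
    by_cases h0 : m 0 = 0
    · have : m = 0 := by
        ext l; fin_cases l <;> simp [h0, hm]
      subst this
      rw [show coeff (0 : Fin 2 →₀ ℕ) H = coeff 0 F by show H 0 = _; simp [H], coeff_zero_C, sub_self]
    · rw [show coeff m H = 0 from if_neg h0, coeff_C, if_neg (fun h => h0 (by simp [h])), sub_zero]
  refine ⟨coeff 0 F, Ideal.Quotient.mk _ G, Ideal.Quotient.mk _ G', ?_⟩
  have hC : algebraMap B (NodeAlg B π) (coeff 0 F) = Ideal.Quotient.mk _ (C (coeff 0 F)) := by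
    show Ideal.Quotient.mk _ (algebraMap B (MvPowerSeries (Fin 2) B) _) = _
    rw [← c_eq_algebraMap]
  rw [hC, ArLef.NodeAlg.t, ArLef.NodeAlg.e, ← map_mul, ← map_mul, ← map_add, ← map_add, ← hG, ← hG']
  congr 1
  ring

variable [IsDomain B]

theorem t_regular (hπ : π ≠ 0) {a : NodeAlg B π} (h : ArLef.NodeAlg.t π * a = 0) : a = 0 := by
  classical
  obtain ⟨F, rfl⟩ := Ideal.Quotient.mk_surjective a
  rw [ArLef.NodeAlg.t, ← map_mul, Ideal.Quotient.eq_zero_iff_mem, Ideal.mem_span_singleton'] at h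
  obtain ⟨g, hg⟩ := h
  obtain ⟨g', rfl⟩ : X 0 ∣ g := by
    rw [X_dvd_iff]
    intro m hm
    have h1 : coeff m (g * (X 0 * X 1) - g * C π) = 0 := by
      rw [← mul_sub, hg]
      exact (X_dvd_iff.1 (dvd_mul_right (X 0) F)) m hm
    rw [map_sub, (X_dvd_iff.1 ⟨g * X 1, by ring⟩ m hm : coeff m (g * (X 0 * X 1)) = 0), coeff_mul_C, zero_sub,
      neg_eq_zero, mul_eq_zero] at h1
    exact h1.resolve_right hπ
  rw [Ideal.Quotient.eq_zero_iff_mem, Ideal.mem_span_singleton']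
  refine ⟨g', mul_left_cancel₀ (fun hX => ?_) ((mul_assoc _ _ _).symm.trans hg)⟩
  exact one_ne_zero (α := B) (by simpa using congrArg (coeff (Finsupp.single (0 : Fin 2) 1)) hX)

theorem e_regular (hπ : π ≠ 0) {a : NodeAlg B π} (h : ArLef.NodeAlg.e π * a = 0) : a = 0 := by
  classical
  obtain ⟨F, rfl⟩ := Ideal.Quotient.mk_surjective a
  rw [ArLef.NodeAlg.e, ← map_mul, Ideal.Quotient.eq_zero_iff_mem, Ideal.mem_span_singleton'] at h
  obtain ⟨g, hg⟩ := h
  obtain ⟨g', rfl⟩ : X 1 ∣ g := by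
    rw [X_dvd_iff]
    intro m hm
    have h1 : coeff m (g * (X 0 * X 1) - g * C π) = 0 := by
      rw [← mul_sub, hg]
      exact (X_dvd_iff.1 (dvd_mul_right (X 1) F)) m hm
    rw [map_sub, (X_dvd_iff.1 ⟨g * X 0, by ring⟩ m hm : coeff m (g * (X 0 * X 1)) = 0), coeff_mul_C, zero_sub,
      neg_eq_zero, mul_eq_zero] at h1
    exact h1.resolve_right hπ
  rw [Ideal.Quotient.eq_zero_iff_mem, Ideal.mem_span_singleton']
  refine ⟨g', mul_left_cancel₀ (fun hX => ?_) ((mul_assoc _ _ _).symm.trans hg)⟩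
  exact one_ne_zero (α := B) (by simpa using congrArg (coeff (Finsupp.single (1 : Fin 2) 1)) hX)

variable [IsDiscreteValuationRing B]

/-- An automorphism fixing `B` is congruent to the identity modulo an ideal containing the displacements
of the two variables. -/
theorem sub_mem (hπ : Irreducible π) (σ : NodeAlg B π ≃ₐ[B] NodeAlg B π) (J : Ideal (NodeAlg B π))
    (ht : σ (ArLef.NodeAlg.t π) - ArLef.NodeAlg.t π ∈ J) (he : σ (ArLef.NodeAlg.e π) - ArLef.NodeAlg.e π ∈ J)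
    (r : NodeAlg B π) : σ r - r ∈ J := by
  haveI := isLocalRing hπ.maximalIdeal_eq
  by_cases hJ : J = ⊤
  · rw [hJ]; trivial
  have hn : ∀ (n : ℕ) (r : NodeAlg B π), σ r - r ∈ J ⊔ nodeIdeal π ^ n := by
    intro n
    induction n with
    | zero => intro r; rw [Submodule.pow_zero, Ideal.one_eq_top, sup_top_eq]; trivial
    | succ n ih =>
      intro r
      obtain ⟨b, r₁, r₂, rfl⟩ := exists_decomp r
      have key : ∀ {v : NodeAlg B π}, v ∈ nodeIdeal π → σ v - v ∈ J → ∀ w,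
          σ (v * w) - v * w ∈ J ⊔ nodeIdeal π ^ (n + 1) := fun {v} hv hvJ w => by
        rw [map_mul, show σ v * σ w - v * w = (σ v - v) * σ w + v * (σ w - w) by ring]
        refine add_mem (Ideal.mul_mem_right _ _ (Ideal.mem_sup_left hvJ)) ?_
        obtain ⟨p, hp, q, hq, hpq⟩ := Submodule.mem_sup.1 (ih w)
        rw [← hpq, mul_add]
        refine add_mem (Ideal.mem_sup_left (J.mul_mem_left _ hp)) (Ideal.mem_sup_right ?_)
        have h2 := Ideal.mul_mem_mul hq hv
        rw [mul_comm q v] at h2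
        rwa [Submodule.pow_succ]
      rw [map_add, map_add, AlgEquiv.commutes, show
        algebraMap B (NodeAlg B π) b + σ (ArLef.NodeAlg.t π * r₁) + σ (ArLef.NodeAlg.e π * r₂) -
          (algebraMap B (NodeAlg B π) b + ArLef.NodeAlg.t π * r₁ + ArLef.NodeAlg.e π * r₂) =
        (σ (ArLef.NodeAlg.t π * r₁) - ArLef.NodeAlg.t π * r₁) +
          (σ (ArLef.NodeAlg.e π * r₂) - ArLef.NodeAlg.e π * r₂) by ring]
      exact add_mem (key (Ideal.subset_span (Set.mem_insert _ _)) ht r₁)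
        (key (Ideal.subset_span (Set.mem_insert_of_mem _ rfl)) he r₂)
  haveI : Nontrivial (NodeAlg B π ⧸ J) := Ideal.Quotient.nontrivial_iff.2 hJ
  haveI : IsLocalRing (NodeAlg B π ⧸ J) := IsLocalRing.of_surjective' (Ideal.Quotient.mk J) Ideal.Quotient.mk_surjective
  have hne : (nodeIdeal π).map (Ideal.Quotient.mk J) ≠ ⊤ := by
    intro htop
    have hle : nodeIdeal π ≤ IsLocalRing.maximalIdeal _ := Ideal.span_le.2 (by
      rintro _ (rfl | rfl)
      · exact (prime_br hπ.maximalIdeal_eq (show (0 : Fin 2) ≠ 1 by decide)).not_isUnit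
      · exact (prime_br hπ.maximalIdeal_eq (show (1 : Fin 2) ≠ 0 by decide)).not_isUnit)
    have h1 : ((IsLocalRing.maximalIdeal (NodeAlg B π)).map (Ideal.Quotient.mk J)) = ⊤ :=
      top_le_iff.1 (htop ▸ Ideal.map_mono hle)
    have h2 := congrArg (Ideal.comap (Ideal.Quotient.mk J)) h1
    rw [Ideal.comap_map_of_surjective _ Ideal.Quotient.mk_surjective, Ideal.comap_top, ← RingHom.ker_eq_comap_bot,
      Ideal.mk_ker] at h2
    exact (IsLocalRing.maximalIdeal.isMaximal _).ne_top (top_le_iff.1 (h2.ge.trans (sup_le le_rfl (IsLocalRing.le_maximalIdeal hJ))))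
  suffices h : Ideal.Quotient.mk J (σ r - r) ∈ (⊥ : Ideal (NodeAlg B π ⧸ J)) from
    Ideal.Quotient.eq_zero_iff_mem.1 h
  rw [← Ideal.iInf_pow_eq_bot_of_isLocalRing ((nodeIdeal π).map (Ideal.Quotient.mk J)) hne, Ideal.mem_iInf]
  intro n
  rw [← Ideal.map_pow, ← sup_bot_eq (Ideal.map _ (nodeIdeal π ^ n)), ← Ideal.map_quotient_self J, ← Ideal.map_sup,
    sup_comm]
  exact Ideal.mem_map_of_mem _ (hn n r)

/-- The fixed-point ideal. -/
theorem fixIdeal_eq (hπ : Irreducible π) (σ : NodeAlg B π ≃ₐ[B] NodeAlg B π) (hσ : σ ≠ AlgEquiv.refl)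
    (ht : Associated (σ (ArLef.NodeAlg.t π)) (ArLef.NodeAlg.t π))
    (he : Associated (σ (ArLef.NodeAlg.e π)) (ArLef.NodeAlg.e π)) :
    ∃ g : NodeAlg B π, g ≠ 0 ∧ ArLef.fixIdeal σ = Ideal.span {g} * nodeIdeal π := by
  obtain ⟨α, hα⟩ := ht.symm
  obtain ⟨β, hβ⟩ := he.symm
  have hte : ArLef.NodeAlg.t π * ArLef.NodeAlg.e π = algebraMap B (NodeAlg B π) π :=
    br_mul_br π (show (0 : Fin 2) ≠ 1 by decide)
  have hαβ : (α : NodeAlg B π) * β = 1 := by
    have h := congrArg σ hte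
    rw [map_mul, AlgEquiv.commutes, ← hα, ← hβ, ← hte] at h
    have h' : ArLef.NodeAlg.t π * (ArLef.NodeAlg.e π * ((α : NodeAlg B π) * β - 1)) = 0 := by
      linear_combination h
    exact sub_eq_zero.1 (e_regular hπ.ne_zero (t_regular hπ.ne_zero h'))
  have hte' : σ (ArLef.NodeAlg.t π) - ArLef.NodeAlg.t π = ((α : NodeAlg B π) - 1) * ArLef.NodeAlg.t π := by
    rw [← hα]; ring
  have hee : σ (ArLef.NodeAlg.e π) - ArLef.NodeAlg.e π =
      ((α : NodeAlg B π) - 1) * (-(β : NodeAlg B π) * ArLef.NodeAlg.e π) := by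
    rw [← hβ]; linear_combination (-ArLef.NodeAlg.e π) * (-hαβ)
  refine ⟨(α : NodeAlg B π) - 1, fun h0 => hσ ?_, le_antisymm ?_ ?_⟩
  · refine AlgEquiv.ext fun r => sub_eq_zero.1 ?_
    have h := sub_mem hπ σ ⊥ (by rw [hte', h0, zero_mul]; exact zero_mem _)
      (by rw [hee, h0, zero_mul]; exact zero_mem _) r
    exact Ideal.mem_bot.1 h
  · refine Ideal.span_le.2 ?_
    rintro _ ⟨r, rfl⟩
    refine sub_mem hπ σ _ ?_ ?_ r
    · rw [hte']
      exact Ideal.mul_mem_mul (Ideal.mem_span_singleton_self _) (Ideal.subset_span (Set.mem_insert _ _))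
    · rw [hee]
      exact Ideal.mul_mem_mul (Ideal.mem_span_singleton_self _)
        (Ideal.mul_mem_left _ _ (Ideal.subset_span (Set.mem_insert_of_mem _ rfl)))
  · rw [nodeIdeal, Ideal.span_mul_span, Set.singleton_mul, Ideal.span_le]
    rintro _ ⟨v, (rfl | rfl), rfl⟩
    · exact Ideal.subset_span ⟨ArLef.NodeAlg.t π, hte'⟩
    · show ((α : NodeAlg B π) - 1) * ArLef.NodeAlg.e π ∈ ArLef.fixIdeal σ
      have e : ((α : NodeAlg B π) - 1) * ArLef.NodeAlg.e π =
          -(α : NodeAlg B π) * (σ (ArLef.NodeAlg.e π) - ArLef.NodeAlg.e π) := by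
        rw [hee]; linear_combination -((α : NodeAlg B π) - 1) * ArLef.NodeAlg.e π * hαβ
      rw [e]
      exact Ideal.mul_mem_left _ _ (Ideal.subset_span ⟨_, rfl⟩)

end Groth.Agent.H26Node
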