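import Mathlib
import Groth.Agent.H26Node.Fixed

/-!
# Fixed-point ideals and lengths
-/

set_option autoImplicit false

universe u

open ArLef

namespace Groth.Agent.H26Node

/-- An endomorphism congruent to the identity on constants and generators is congruent to it everywhere. -/
theorem sub_mem_gen {A : Type u} [CommRing A] [IsNoetherianRing A] [IsLocalRing A] (M : Ideal A)
    (hM : M ≤ IsLocalRing.maximalIdeal A) (S : Set A) (hS : M = Ideal.span S) (C : Set A)
    (hdec : ∀ r, ∃ c ∈ C, r - c ∈ M) (σ : A →+* A) (J : Ideal A)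
    (hC : ∀ c ∈ C, σ c - c ∈ J) (hv : ∀ v ∈ S, σ v - v ∈ J) (r : A) : σ r - r ∈ J := by
  have hn : ∀ (n : ℕ) (r : A), σ r - r ∈ J ⊔ M ^ n := by
    intro n
    induction n with
    | zero => intro r; rw [pow_zero, Ideal.one_eq_top, sup_top_eq]; trivial
    | succ n ih =>
      intro r
      obtain ⟨c, hc, hrc⟩ := hdec r
      have key : ∀ x ∈ M, σ x - x ∈ J ⊔ M ^ (n + 1) := by
        intro x hx
        rw [hS] at hx
        induction hx using Submodule.span_induction with
        | mem v hv' => exact Ideal.mem_sup_left (hv v hv')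
        | zero => simp
        | add x y _ _ hx hy => rw [map_add, add_sub_add_comm]; exact add_mem hx hy
        | smul a x hxm hx =>
          rw [smul_eq_mul, map_mul, show σ a * σ x - a * x = σ a * (σ x - x) + x * (σ a - a) by ring]
          refine add_mem (Ideal.mul_mem_left _ _ hx) ?_
          obtain ⟨p, hp, q, hq, hpq⟩ := Submodule.mem_sup.1 (ih a)
          rw [← hpq, mul_add]
          refine add_mem (Ideal.mem_sup_left (J.mul_mem_left _ hp)) (Ideal.mem_sup_right ?_)
          rw [pow_succ']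
          exact Ideal.mul_mem_mul (hS ▸ hxm) hq
      rw [show σ r - r = (σ (r - c) - (r - c)) + (σ c - c) by rw [map_sub]; ring]
      exact add_mem (key _ hrc) (Ideal.mem_sup_left (hC c hc))
  by_cases hJ : J = ⊤
  · rw [hJ]; trivial
  haveI : Nontrivial (A ⧸ J) := Ideal.Quotient.nontrivial_iff.2 hJ
  haveI : IsLocalRing (A ⧸ J) := IsLocalRing.of_surjective' (Ideal.Quotient.mk J) Ideal.Quotient.mk_surjective
  have hne : M.map (Ideal.Quotient.mk J) ≠ ⊤ := by
    intro htop
    have h1 : (IsLocalRing.maximalIdeal A).map (Ideal.Quotient.mk J) = ⊤ :=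
      top_le_iff.1 (htop ▸ Ideal.map_mono hM)
    have h2 := congrArg (Ideal.comap (Ideal.Quotient.mk J)) h1
    rw [Ideal.comap_map_of_surjective _ Ideal.Quotient.mk_surjective, Ideal.comap_top, ← RingHom.ker_eq_comap_bot,
      Ideal.mk_ker] at h2
    exact (IsLocalRing.maximalIdeal.isMaximal _).ne_top
      (top_le_iff.1 (h2.ge.trans (sup_le le_rfl (IsLocalRing.le_maximalIdeal hJ))))
  suffices h : Ideal.Quotient.mk J (σ r - r) ∈ (⊥ : Ideal (A ⧸ J)) from Ideal.Quotient.eq_zero_iff_mem.1 h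
  rw [← Ideal.iInf_pow_eq_bot_of_isLocalRing (M.map (Ideal.Quotient.mk J)) hne, Ideal.mem_iInf]
  intro n
  rw [← Ideal.map_pow, ← sup_bot_eq (Ideal.map _ (M ^ n)), ← Ideal.map_quotient_self J, ← Ideal.map_sup, sup_comm]
  exact Ideal.mem_map_of_mem _ (hn n r)

/-- Cutting a cyclic module by one element. -/
theorem length_step {A : Type u} [CommRing A] (I K : Ideal A) (x : A) (hK : ∀ y, x * y ∈ I ↔ y ∈ K) :
    Module.length A (A ⧸ I) = Module.length A (A ⧸ K) + Module.length A (A ⧸ (I ⊔ Ideal.span {x})) := by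
  let f : (A ⧸ K) →ₗ[A] A ⧸ I := Submodule.mapQ K I (LinearMap.mulLeft A x) fun y hy => (hK y).2 hy
  let g : (A ⧸ I) →ₗ[A] A ⧸ (I ⊔ Ideal.span {x}) :=
    Submodule.mapQ I (I ⊔ Ideal.span {x}) LinearMap.id fun y hy => Ideal.mem_sup_left hy
  refine Module.length_eq_add_of_exact f g ?_ ?_ ?_
  · intro a b hab
    obtain ⟨a, rfl⟩ := Submodule.Quotient.mk_surjective _ a
    obtain ⟨b, rfl⟩ := Submodule.Quotient.mk_surjective _ b
    simp only [f, Submodule.mapQ_apply, LinearMap.mulLeft_apply, Submodule.Quotient.eq, ← mul_sub] at hab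
    exact (Submodule.Quotient.eq _).2 ((hK _).1 hab)
  · intro a
    obtain ⟨a, rfl⟩ := Submodule.Quotient.mk_surjective _ a
    exact ⟨Submodule.Quotient.mk a, rfl⟩
  · intro a
    obtain ⟨a, rfl⟩ := Submodule.Quotient.mk_surjective _ a
    simp only [g, f, Submodule.mapQ_apply, LinearMap.id_apply, Submodule.Quotient.mk_eq_zero, Set.mem_range]
    constructor
    · intro ha
      obtain ⟨p, hp, q, hq, rfl⟩ := Submodule.mem_sup.1 ha
      obtain ⟨y, rfl⟩ := Ideal.mem_span_singleton'.1 hq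
      refine ⟨Submodule.Quotient.mk y, ?_⟩
      rw [Submodule.mapQ_apply, LinearMap.mulLeft_apply, Submodule.Quotient.eq,
        show x * y - (p + y * x) = -p by ring]
      exact neg_mem hp
    · rintro ⟨y, hy⟩
      obtain ⟨y, rfl⟩ := Submodule.Quotient.mk_surjective _ y
      rw [Submodule.mapQ_apply, LinearMap.mulLeft_apply, Submodule.Quotient.eq] at hy
      rw [show a = -(x * y - a) + y * x by ring]
      exact add_mem (Ideal.mem_sup_left (neg_mem hy))
        (Ideal.mem_sup_right (Ideal.mem_span_singleton'.2 ⟨y, rfl⟩))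

/-- A maximal ideal has colength one. -/
theorem length_of_isMaximal {A : Type u} [CommRing A] (I : Ideal A) [hI : I.IsMaximal] :
    Module.length A (A ⧸ I) = 1 := by
  rw [Module.length_eq_one_iff]
  exact isSimpleModule_iff_isCoatom.2 hI.out

section Node

variable {B : Type u} [CommRing B] [IsLocalRing B] {π : B}
  (hπ : IsLocalRing.maximalIdeal B = Ideal.span {π})
include hπ

omit hπ in
theorem t_eq : ArLef.NodeAlg.t π = br π 0 := rfl

omit hπ in
theorem e_eq : ArLef.NodeAlg.e π = br π 1 := rfl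

theorem t_mem_maximal : letI := isLocalRing hπ; ArLef.NodeAlg.t π ∈ IsLocalRing.maximalIdeal (NodeAlg B π) :=
  (prime_br hπ (show (0 : Fin 2) ≠ 1 by decide)).not_isUnit

theorem e_mem_maximal : letI := isLocalRing hπ; ArLef.NodeAlg.e π ∈ IsLocalRing.maximalIdeal (NodeAlg B π) :=
  (prime_br hπ (show (1 : Fin 2) ≠ 0 by decide)).not_isUnit

theorem isMaximal_nodeIdeal : (nodeIdeal π).IsMaximal := by
  letI := isLocalRing hπ
  have hmax : nodeIdeal π = IsLocalRing.maximalIdeal (NodeAlg B π) := by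
    refine le_antisymm (Ideal.span_le.2 ?_) fun r hr => ?_
    · rintro _ (rfl | rfl)
      · exact t_mem_maximal hπ
      · exact e_mem_maximal hπ
    obtain ⟨b, r₁, r₂, rfl⟩ := exists_decomp r
    have h12 : ArLef.NodeAlg.t π * r₁ + ArLef.NodeAlg.e π * r₂ ∈ nodeIdeal π :=
      add_mem (Ideal.mul_mem_right _ _ (Ideal.subset_span (Set.mem_insert _ _)))
        (Ideal.mul_mem_right _ _ (Ideal.subset_span (Set.mem_insert_of_mem _ rfl)))
    rw [add_assoc]
    refine add_mem ?_ h12
    have hb : b ∈ IsLocalRing.maximalIdeal B := by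
      by_contra hb
      have hle : nodeIdeal π ≤ IsLocalRing.maximalIdeal (NodeAlg B π) := Ideal.span_le.2 (by
        rintro _ (rfl | rfl)
        · exact t_mem_maximal hπ
        · exact e_mem_maximal hπ)
      have hu : IsUnit (algebraMap B (NodeAlg B π) b) := ((IsLocalRing.notMem_maximalIdeal).1 hb).map _
      have h := Ideal.sub_mem _ hr (hle h12)
      rw [show algebraMap B (NodeAlg B π) b + ArLef.NodeAlg.t π * r₁ + ArLef.NodeAlg.e π * r₂ -
        (ArLef.NodeAlg.t π * r₁ + ArLef.NodeAlg.e π * r₂) = algebraMap B (NodeAlg B π) b by ring] at h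
      exact (IsLocalRing.mem_maximalIdeal _).1 h hu
    rw [hπ, Ideal.mem_span_singleton] at hb
    obtain ⟨b', rfl⟩ := hb
    rw [map_mul, ← br_mul_br π (show (0 : Fin 2) ≠ 1 by decide), mul_assoc]
    exact Ideal.mul_mem_right _ _ (Ideal.subset_span (Set.mem_insert _ _))
  rw [hmax]
  infer_instance

theorem length_nodeIdeal : Module.length (NodeAlg B π) (NodeAlg B π ⧸ nodeIdeal π) = 1 :=
  haveI := isMaximal_nodeIdeal hπ
  length_of_isMaximal _

theorem sub_mem_node [IsNoetherianRing B] (σ : NodeAlg B π →+* NodeAlg B π) (J : Ideal (NodeAlg B π))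
    (hb : ∀ b : B, σ (algebraMap B (NodeAlg B π) b) - algebraMap B (NodeAlg B π) b ∈ J)
    (ht : σ (ArLef.NodeAlg.t π) - ArLef.NodeAlg.t π ∈ J) (he : σ (ArLef.NodeAlg.e π) - ArLef.NodeAlg.e π ∈ J)
    (r : NodeAlg B π) : σ r - r ∈ J := by
  letI := isLocalRing hπ
  refine sub_mem_gen (nodeIdeal π) (Ideal.span_le.2 ?_) {ArLef.NodeAlg.t π, ArLef.NodeAlg.e π} rfl
    (Set.range (algebraMap B (NodeAlg B π))) (fun r => ?_) σ J ?_ ?_ r
  · rintro _ (rfl | rfl)
    · exact t_mem_maximal hπ
    · exact e_mem_maximal hπ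
  · obtain ⟨b, r₁, r₂, rfl⟩ := exists_decomp r
    refine ⟨_, ⟨b, rfl⟩, ?_⟩
    rw [add_assoc, add_sub_cancel_left]
    exact add_mem (Ideal.mul_mem_right _ _ (Ideal.subset_span (Set.mem_insert _ _)))
      (Ideal.mul_mem_right _ _ (Ideal.subset_span (Set.mem_insert_of_mem _ rfl)))
  · rintro _ ⟨b, rfl⟩; exact hb b
  · rintro _ (rfl | rfl)
    · exact ht
    · exact he

/-- The fixed-point ideal is generated by the displacements of constants and variables. -/
theorem fixIdeal_le [IsNoetherianRing B] (σ : NodeAlg B π →+* NodeAlg B π) (J : Ideal (NodeAlg B π))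
    (hb : ∀ b : B, σ (algebraMap B (NodeAlg B π) b) - algebraMap B (NodeAlg B π) b ∈ J)
    (ht : σ (ArLef.NodeAlg.t π) - ArLef.NodeAlg.t π ∈ J) (he : σ (ArLef.NodeAlg.e π) - ArLef.NodeAlg.e π ∈ J) :
    ArLef.fixIdeal σ ≤ J :=
  Ideal.span_le.2 (by rintro _ ⟨r, rfl⟩; exact sub_mem_node hπ σ J hb ht he r)

omit hπ [IsLocalRing B] in
theorem mem_fixIdeal {A : Type u} [CommRing A] {σ : A → A} (r : A) : σ r - r ∈ ArLef.fixIdeal σ :=
  Ideal.subset_span ⟨r, rfl⟩

theorem dvd_of_dvd_mul {i j : Fin 2} (h : i ≠ j) {a b : NodeAlg B π} (ha : ¬ br π i ∣ a)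
    (hab : br π i ∣ a * b) : br π i ∣ b :=
  ((prime_br hπ h).dvd_or_dvd hab).resolve_left ha

theorem length_span_br {i j : Fin 2} (h : i ≠ j) {a : NodeAlg B π} :
    Module.length (NodeAlg B π) (NodeAlg B π ⧸ Ideal.span {br π i, br π j * a}) =
      Module.length (NodeAlg B π) (NodeAlg B π ⧸ Ideal.span {br π i, a}) + 1 := by
  rw [length_step (Ideal.span {br π i, br π j * a}) (Ideal.span {br π i, a}) (br π j) fun y => ?_]
  · congr 1
    have : Ideal.span {br π i, br π j * a} ⊔ Ideal.span {br π j} = nodeIdeal π := by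
      refine le_antisymm (sup_le (Ideal.span_le.2 ?_) (Ideal.span_le.2 ?_)) (Ideal.span_le.2 ?_)
      · rintro _ (rfl | rfl)
        · fin_cases i
          · exact Ideal.subset_span (Set.mem_insert _ _)
          · exact Ideal.subset_span (Set.mem_insert_of_mem _ rfl)
        · refine Ideal.mul_mem_right _ _ ?_
          fin_cases j
          · exact Ideal.subset_span (Set.mem_insert _ _)
          · exact Ideal.subset_span (Set.mem_insert_of_mem _ rfl)
      · rintro _ rfl
        fin_cases j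
        · exact Ideal.subset_span (Set.mem_insert _ _)
        · exact Ideal.subset_span (Set.mem_insert_of_mem _ rfl)
      · rintro _ (rfl | rfl) <;> fin_cases i <;> fin_cases j <;> first
          | exact absurd rfl h
          | exact Ideal.mem_sup_left (Ideal.subset_span (Set.mem_insert _ _))
          | exact Ideal.mem_sup_right (Ideal.mem_span_singleton_self _)
    rw [this, length_nodeIdeal hπ]
  · rw [Ideal.mem_span_pair, Ideal.mem_span_pair]
    constructor
    · rintro ⟨u, v, huv⟩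
      have hd : br π i ∣ br π j * (y - v * a) := ⟨u, by linear_combination -huv⟩
      obtain ⟨q, hq⟩ := dvd_of_dvd_mul hπ h (not_br_dvd_br hπ h) hd
      exact ⟨q, v, by linear_combination -hq⟩
    · rintro ⟨u, v, rfl⟩
      exact ⟨br π j * u, v, by ring⟩

end Node

end Groth.Agent.H26Node

namespace Groth.Agent.H26Node

variable {B : Type u} [CommRing B] [IsDomain B] [IsDiscreteValuationRing B] {π : B}

theorem br_regular (hπ : π ≠ 0) (i : Fin 2) {a : NodeAlg B π} (h : br π i * a = 0) : a = 0 := by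
  fin_cases i
  · exact t_regular hπ h
  · exact e_regular hπ h

theorem pow_dvd_of_dvd_mul (hπ : Irreducible π) {i j : Fin 2} (h : i ≠ j) {a : NodeAlg B π}
    (ha : ¬ br π i ∣ a) : ∀ (n : ℕ) {b : NodeAlg B π}, br π i ^ n ∣ a * b → br π i ^ n ∣ b := by
  intro n
  induction n with
  | zero => intro b _; rw [pow_zero]; exact one_dvd _
  | succ n ih =>
    intro b hb
    obtain ⟨b', rfl⟩ := dvd_of_dvd_mul hπ.maximalIdeal_eq h ha ((dvd_pow_self _ n.succ_ne_zero).trans hb)
    obtain ⟨q, hq⟩ := hb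
    rw [pow_succ'] at hq ⊢
    refine mul_dvd_mul_left _ (ih ⟨q, sub_eq_zero.1 (br_regular hπ.ne_zero i ?_)⟩)
    linear_combination hq

/-- Powers of `π` cancel against elements on neither branch. -/
theorem pi_pow_dvd_of_dvd_mul (hπ : Irreducible π) {a : NodeAlg B π} (h0 : ¬ br π 0 ∣ a) (h1 : ¬ br π 1 ∣ a)
    {n : ℕ} {b : NodeAlg B π} (hb : algebraMap B (NodeAlg B π) π ^ n ∣ a * b) :
    algebraMap B (NodeAlg B π) π ^ n ∣ b := by
  have hte := br_mul_br π (show (0 : Fin 2) ≠ 1 by decide)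
  rw [← hte, mul_pow] at hb ⊢
  obtain ⟨b', rfl⟩ := pow_dvd_of_dvd_mul hπ (show (0 : Fin 2) ≠ 1 by decide) h0 n
    ((dvd_mul_right _ _).trans hb)
  refine mul_dvd_mul_left _ (pow_dvd_of_dvd_mul hπ (show (1 : Fin 2) ≠ 0 by decide) ?_ n
    (b := b') ((dvd_mul_left _ _).trans hb |> fun h2 => pow_dvd_of_dvd_mul hπ (show (1 : Fin 2) ≠ 0 by decide)
      (fun h3 => not_br_dvd_br hπ.maximalIdeal_eq (show (1 : Fin 2) ≠ 0 by decide) ((prime_br hπ.maximalIdeal_eq
        (show (1 : Fin 2) ≠ 0 by decide)).dvd_of_dvd_pow h3)) n (a := br π 0 ^ n) (b := a * b')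
      (by obtain ⟨q, hq⟩ := h2; exact ⟨q, by linear_combination hq⟩)))
  exact h1

theorem pi_mem_nodeIdeal : algebraMap B (NodeAlg B π) π ∈ nodeIdeal π := by
  rw [← br_mul_br π (show (0 : Fin 2) ≠ 1 by decide)]
  exact Ideal.mul_mem_right _ _ (Ideal.subset_span (Set.mem_insert _ _))

end Groth.Agent.H26Node
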