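import Groth.Agent.H9CI.RelGCIProps
import Groth.Agent.H9CI.RelGCI
import Groth.Agent.H29Node.Syntomic
import Groth.Agent.H29Node.NodalMax
import Groth.Agent.S9366
import Groth.Agent.S1592

/-!
# The node model `A[u, v] / (u v - a)` is a nodal family of curves
-/

set_option autoImplicit false
set_option linter.style.haveILetI false
set_option backward.isDefEq.respectTransparency false

universe u

open CategoryTheory CategoryTheory.Limits AlgebraicGeometry MvPolynomial Topology
open Groth.Agent.H29Node Groth.Agent.H29Node.SingLocus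

namespace Groth.Agent.H26Node.ModelFamily

variable {A : Type u} [CommRing A] (a : A)

/-- The equation of the node model. -/
noncomputable abbrev eqn : Fin 1 → MvPolynomial (Fin 2) A := fun _ => X 0 * X 1 - C a

/-- The node model as a complete intersection ring. -/
abbrev Model : Type u := Synt.RelGCIRing A 2 1 (eqn a)

theorem map_eqn {B : Type u} [CommRing B] (φ : A →+* B) :
    (fun i => MvPolynomial.map φ (eqn a i)) = eqn (φ a) := by
  funext i; simp [eqn]

theorem eqn_ne_zero {K : Type u} [Field K] (c : K) : (X 0 * X 1 - C c : MvPolynomial (Fin 2) K) ≠ 0 := by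
  intro h
  have h1 : eval (![1, c + 1] : Fin 2 → K) (X 0 * X 1 - C c) = 0 := by rw [h, map_zero]
  simp at h1

theorem dim_le {K : Type u} [Field K] (c : K) :
    ringKrullDim (MvPolynomial (Fin 2) K ⧸ Ideal.span (Set.range (eqn c))) ≤ 1 := by
  have h := ringKrullDim_quotient_succ_le_of_nonZeroDivisor (mem_nonZeroDivisors_of_ne_zero (eqn_ne_zero c))
  rw [MvPolynomial.ringKrullDim_of_isNoetherianRing, ringKrullDim_eq_zero_of_field K, zero_add] at h
  rw [Set.range_const]
  revert h
  generalize ringKrullDim (MvPolynomial (Fin 2) K ⧸ Ideal.span {X 0 * X 1 - C c}) = d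
  intro h
  cases d with
  | bot => exact bot_le
  | coe d =>
    cases d with
    | top => norm_cast at h
    | coe d =>
      have h' : ((d + 1 : ℕ) : WithBot ℕ∞) ≤ ((2 : ℕ) : WithBot ℕ∞) := by
        rw [Nat.card_fin] at h
        push_cast
        exact h
      have h2 : d + 1 ≤ 2 := Nat.cast_le.1 h'
      show ((d : ℕ) : WithBot ℕ∞) ≤ ((1 : ℕ) : WithBot ℕ∞)
      exact Nat.cast_le.2 (by omega)

theorem isRelGCI : Synt.IsRelGCI A 2 1 (eqn a) := by
  refine (H8Props.RelGCI.isRelGCI_iff _).2 fun p => ?_
  rw [H8Props.RelGCI.dim_fibre]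
  obtain ⟨g, hg⟩ := H8Props.RelGCI.fiber_presented (eqn a) p
  have e := RingEquiv.ofBijective g hg
  have h := dim_le (algebraMap A p.asIdeal.ResidueField a)
  rw [← map_eqn a] at h
  rw [@ringKrullDim_eq_of_ringEquiv (p.asIdeal.Fiber (Synt.RelGCIRing A 2 1 (eqn a))) _ _ _ e]
  exact h.trans (by simp [H8Props.RelGCI.bd])

/-- The two coordinates. -/
noncomputable abbrev co (i : Fin 2) : Model a := Ideal.Quotient.mk _ (X i)

theorem co_mul : co a 0 * co a 1 = algebraMap A (Model a) a := by
  rw [← map_mul]
  exact Ideal.Quotient.eq.2 (Ideal.subset_span ⟨0, rfl⟩)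

open KaehlerDifferential in
theorem span_D_co : Submodule.span (Model a) (Set.range fun i => D A (Model a) (co a i)) = ⊤ := by
  rw [eq_top_iff, ← span_range_derivation, Submodule.span_le]
  rintro _ ⟨z, rfl⟩
  obtain ⟨z, rfl⟩ := Ideal.Quotient.mk_surjective z
  induction z using MvPolynomial.induction_on with
  | C r =>
    rw [show (Ideal.Quotient.mk _ (C r) : Model a) = algebraMap A (Model a) r from rfl, Derivation.map_algebraMap]
    exact Submodule.zero_mem _
  | add p q hp hq => rw [map_add, map_add]; exact Submodule.add_mem _ hp hq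
  | mul_X p i hp =>
    rw [map_mul, Derivation.leibniz]
    exact Submodule.add_mem _ (Submodule.smul_mem _ _ (Submodule.subset_span ⟨i, rfl⟩))
      (Submodule.smul_mem _ _ hp)

open KaehlerDifferential in
theorem co_mem_fitt (i : Fin 2) : co a i ∈ fitt A (Model a) := by
  have hrel : co a 1 • D A (Model a) (co a 0) + co a 0 • D A (Model a) (co a 1) = 0 := by
    rw [add_comm, ← Derivation.leibniz, co_mul, Derivation.map_algebraMap]
  have hmem : ∀ z w : Model a, (!![co a 1, co a 0; z, w] : Matrix (Fin 2) (Fin 2) (Model a)).det ∈ fitt A (Model a) := by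
    intro z w
    refine Ideal.subset_span ⟨2, fun i => D A (Model a) (co a i), _, span_D_co a, fun j hj => ?_, rfl⟩
    obtain rfl : j = 0 := Fin.ext (by simp at hj ⊢; omega)
    simpa [Fin.sum_univ_two] using hrel
  fin_cases i
  · have h := hmem 1 0
    simpa [Matrix.det_fin_two] using h
  · have h := hmem 0 1
    simpa [Matrix.det_fin_two] using h

theorem notMem_bad (p : PrimeSpectrum (Model a)) : p ∉ bad A (Model a) := by
  refine (notMem_bad_iff A (Model a)).2 fun ω => ⟨1, fun h => p.isPrime.ne_top ((Ideal.eq_top_iff_one _).2 h), ?_⟩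
  have h : singRel A (Model a) = ⊤ := by
    rw [eq_top_iff, ← span_D_co a, Submodule.span_le]
    rintro _ ⟨i, rfl⟩
    exact Submodule.mem_sup_right (Submodule.subset_span ⟨_, co_mem_fitt a i, rfl⟩)
  rw [h]; trivial

theorem syntomic : Synt.IsSyntomicMor (Spec.map (CommRingCat.ofHom (algebraMap A (Model a)))) := by
  refine (H9CI.isSyntomicMor_Spec_iff _).2 ?_
  have h : Synt.IsSyntomic A (Model a) := H9CI.isSyntomic_relGCIRing (eqn a) (isRelGCI a)
  show H9CI.SyntomicHom (algebraMap A (Model a))
  unfold H9CI.SyntomicHom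
  rw [show (algebraMap A (Model a)).toAlgebra = (inferInstance : Algebra A (Model a)) from
    Algebra.algebra_ext _ _ fun _ => rfl]
  exact h

/-- The model is a nodal family. -/
theorem isNodalFamily : Curv2.IsNodalFamily (Spec.map (CommRingCat.ofHom (algebraMap A (Model a)))) := by
  let f := Spec.map (CommRingCat.ofHom (algebraMap A (Model a)))
  obtain ⟨hfl, hlfp⟩ := H13CI.flat_lfp_of_isSyntomicMor (syntomic a)
  haveI : Flat f := hfl
  haveI : LocallyOfFinitePresentation f := hlfp
  have hd : ∀ x, FlatMor.fibreDimAt f x = 1 := fun x => by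
    simpa using S9366.result A 2 1 (eqn a) (isRelGCI a) x
  refine (isNodalFamily_iff f).2 fun x => ⟨hd x, ?_⟩
  exact (nodalAt_iff_isCI f (𝟙 _) (𝟙 _) (by simp [f]) x ((pure_fibres_iff f).2 hd _)).2
    ⟨(H13CI.isSyntomicAt_iff f _).1 (syntomic a _), notMem_bad a x⟩

/-- The node model of the prelude is a nodal family. -/
theorem isNodalFamily_nodeAlg (b : A) :
    Curv2.IsNodalFamily (Spec.map (CommRingCat.ofHom (algebraMap A
      (MvPolynomial (Fin 2) A ⧸ Ideal.span {(X 0 * X 1 - C b : MvPolynomial (Fin 2) A)})))) := by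
  let e : Model b ≃ₐ[A] MvPolynomial (Fin 2) A ⧸ Ideal.span {(X 0 * X 1 - C b : MvPolynomial (Fin 2) A)} :=
    Ideal.quotientEquivAlgOfEq A (by rw [Set.range_const])
  have h := S1592.result _ (isNodalFamily b) (Spec.map e.toRingEquiv.toCommRingCatIso.hom)
  convert h using 1
  rw [← Spec.map_comp]
  congr 1

end Groth.Agent.H26Node.ModelFamily
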